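import Mathlib
import Cfsg.Prelude.Def_Blocks
import Cfsg.Prelude.Def_Transfer
import Cfsg.Prelude.Def_Classification2
import Cfsg.Prelude.Def_LieTypeChar
import Cfsg.Agent.Prune
set_option linter.all false
prune_inst 0x7f00000000000000000000000000000000000000000000000000000000000000000000000000000000000000000000000000000000000000000000000000000000000000000000000000000000000000003fffffffffffffffffffffffffffbeffbdffffffff
open scoped Cfsg.Agent.FastGrp

/-!
# S4891 : the interface (helper145)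

`p` odd. `Row p S` is what the reduction of S4891 needs for the simple group `S`; `RowT` and `RowInt` are stronger
forms, one of which is what a row normally proves.  `Row4.…` : the families.
-/

set_option autoImplicit false

open Subgroup

namespace Cfsg.Agent.H145.BR

open Cfsg

universe u v

/-- `χ` is `p`-rational : the form of the statement S4891 -/
def PRat (p : ℕ) {G : Type u} (χ : G → ℂ) : Prop :=
  ∃ n : ℕ, ¬ p ∣ n ∧ ∀ g : G, χ g ∈ IntermediateField.adjoin ℚ ({Complex.exp (2 * Real.pi * Complex.I / n)} : Set ℂ)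

/-- `θ` is a witness for `S`: nontrivial, of degree prime to `p`, `p`-rational, in the principal `p`-block -/
def Wit (p : ℕ) (M : Ideal AlgInt) (S : Type u) [Group S] (θ : IrrCharacter S) : Prop :=
  θ ∈ principalBlock M S ∧ (θ : S → ℂ) ≠ (fun _ => 1) ∧ ¬ p ∣ charDegree (θ : S → ℂ) ∧ PRat p (θ : S → ℂ)

/-- there is a witness invariant under the automorphisms in `A` -/
def RowA (p : ℕ) (S : Type u) [Group S] (A : Subgroup (MulAut S)) : Prop :=
  ∀ M : Ideal AlgInt, IsPModular p M → ∃ θ : IrrCharacter S, Wit p M S θ ∧ ∀ a ∈ A, ∀ x : S, (θ : S → ℂ) (a x) = (θ : S → ℂ) x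

/-- **The row** needed by the reduction: for every `p`-group `A` of automorphisms which contains the inner
automorphisms of some Sylow `p`-subgroup of `S`, either there is an `A`-invariant witness, or no nontrivial
`p'`-element of `S` normalizes `A` (this happens only for `p = 3`, `S = PSL₂(3 ^ 3 ^ a)`). -/
def Row (p : ℕ) (S : Type u) [Group S] : Prop :=
  ∀ A : Subgroup (MulAut S), IsPGroup p A → (∃ Q : Sylow p S, ∀ x ∈ Q, MulAut.conj x ∈ A) →
    RowA p S A ∨ ∀ g : S, ¬ p ∣ orderOf g → (∀ a ∈ A, MulAut.conj g * a * (MulAut.conj g)⁻¹ ∈ A) → g = 1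

/-- the strong row: for every `p`-group `A` of automorphisms of `S` there is an `A`-invariant witness -/
def RowT (p : ℕ) (S : Type u) [Group S] : Prop :=
  ∀ A : Subgroup (MulAut S), IsPGroup p A → RowA p S A

/-- the strongest row: for every `M` there is a witness with integer values, invariant under all automorphisms -/
def RowInt (p : ℕ) (S : Type u) [Group S] : Prop :=
  ∀ M : Ideal AlgInt, IsPModular p M → ∃ θ : IrrCharacter S, θ ∈ principalBlock M S ∧ (θ : S → ℂ) ≠ (fun _ => 1) ∧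
    ¬ p ∣ charDegree (θ : S → ℂ) ∧ (∀ g, ∃ k : ℤ, (θ : S → ℂ) g = k) ∧
    ∀ (a : MulAut S) (x : S), (θ : S → ℂ) (a x) = (θ : S → ℂ) x

theorem pRat_of_int {p : ℕ} [hp : Fact p.Prime] {G : Type u} {χ : G → ℂ} (h : ∀ g, ∃ k : ℤ, χ g = k) : PRat p χ := by
  refine ⟨1, fun h1 => hp.out.one_lt.ne' (Nat.dvd_one.1 h1), fun g => ?_⟩
  obtain ⟨k, hk⟩ := h g
  rw [hk]
  exact intCast_mem _ k

theorem pRat_of_rat {p : ℕ} [hp : Fact p.Prime] {G : Type u} {χ : G → ℂ} (h : ∀ g, ∃ k : ℚ, χ g = k) : PRat p χ := by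
  refine ⟨1, fun h1 => hp.out.one_lt.ne' (Nat.dvd_one.1 h1), fun g => ?_⟩
  obtain ⟨k, hk⟩ := h g
  rw [hk]
  exact IntermediateField.algebraMap_mem
    (IntermediateField.adjoin ℚ ({Complex.exp (2 * Real.pi * Complex.I / (1 : ℕ))} : Set ℂ)) k

theorem RowInt.rowT {p : ℕ} [Fact p.Prime] {S : Type u} [Group S] (h : RowInt p S) : RowT p S := by
  intro A _ M hM
  obtain ⟨θ, h1, h2, h3, h4, h5⟩ := h M hM
  exact ⟨θ, ⟨h1, h2, h3, pRat_of_int h4⟩, fun a _ x => h5 a x⟩

theorem RowT.row {p : ℕ} {S : Type u} [Group S] (h : RowT p S) : Row p S := fun A hA _ => Or.inl (h A hA)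

theorem RowInt.row {p : ℕ} [Fact p.Prime] {S : Type u} [Group S] (h : RowInt p S) : Row p S := h.rowT.row

/-! ## The families -/

/-- the row for all nonabelian simple groups `X` with non-cyclic Sylow `p`-subgroups having the property `C` -/
def RowFor (p : ℕ) (C : ∀ (X : Type) [Group X], Prop) : Prop :=
  ∀ (X : Type) [Group X] [Finite X] [IsSimpleGroup X], ¬ IsMulCommutative X → p ∣ Nat.card X →
    (∀ P : Sylow p X, ¬ IsCyclic P) → C X → Row p X

/-- the same, the strong row -/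
def RowForT (p : ℕ) (C : ∀ (X : Type) [Group X], Prop) : Prop :=
  ∀ (X : Type) [Group X] [Finite X] [IsSimpleGroup X], ¬ IsMulCommutative X → p ∣ Nat.card X →
    (∀ P : Sylow p X, ¬ IsCyclic P) → C X → RowT p X

theorem RowForT.rowFor {p : ℕ} {C : ∀ (X : Type) [Group X], Prop} (h : RowForT p C) : RowFor p C :=
  fun X _ _ _ hna hd hc hC => (h X hna hd hc hC).row

/-- **the rows** -/
structure Rows (p : ℕ) : Prop where
  cyc : ∀ (X : Type) [Group X] [Finite X] [IsSimpleGroup X], ¬ IsMulCommutative X → p ∣ Nat.card X →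
    (∃ P : Sylow p X, IsCyclic P) → RowT p X
  alt : RowForT p (fun X _ => IsAlternating X)
  lie : RowFor p (fun X _ => IsLieTypeChar p X)
  psl : RowForT p (fun X _ => ∃ (F : Type) (_ : Field F) (_ : Fintype F) (n : ℕ), (p : F) ≠ 0 ∧ 2 ≤ n ∧
    Nonempty (X ≃* Matrix.ProjectiveSpecialLinearGroup (Fin n) F))
  psp : RowForT p (fun X _ => ∃ (F : Type) (_ : Field F) (_ : Fintype F) (m : ℕ), (p : F) ≠ 0 ∧ 2 ≤ m ∧
    Nonempty (X ≃* PSp m F))
  psu : RowForT p (fun X _ => ∃ (F : Type) (_ : Field F) (_ : Fintype F) (n q : ℕ), (p : F) ≠ 0 ∧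
    Fintype.card F = q ^ 2 ∧ 3 ≤ n ∧ Nonempty (X ≃* PSU n F q))
  oodd : RowForT p (fun X _ => ∃ (F : Type) (_ : Field F) (_ : Fintype F) (m : ℕ), (p : F) ≠ 0 ∧
    3 ≤ m ∧ Odd (Fintype.card F) ∧ Nonempty (X ≃* POmega F (quadFormOdd m F)))
  oplus : RowForT p (fun X _ => ∃ (F : Type) (_ : Field F) (_ : Fintype F) (m : ℕ), (p : F) ≠ 0 ∧
    4 ≤ m ∧ Nonempty (X ≃* POmega F (quadFormPlus m F)))
  ominus : RowForT p (fun X _ => ∃ (F : Type) (_ : Field F) (_ : Fintype F) (m : ℕ) (a b : F), (p : F) ≠ 0 ∧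
    4 ≤ m ∧ (∀ z₁ z₂ : F, z₁ ^ 2 + a * z₁ * z₂ + b * z₂ ^ 2 = 0 → z₁ = 0 ∧ z₂ = 0) ∧
    Nonempty (X ≃* POmega F (quadFormMinus (m - 1) F a b)))
  g2 : RowForT p (fun X _ => ∃ (F : Type) (_ : Field F) (_ : Fintype F), (p : F) ≠ 0 ∧ 3 ≤ Fintype.card F ∧
    Nonempty (X ≃* Lie.chevG2.group F))
  f4 : RowForT p (fun X _ => ∃ (F : Type) (_ : Field F) (_ : Fintype F), (p : F) ≠ 0 ∧ Nonempty (X ≃* Lie.chevF4.group F))
  e6 : RowForT p (fun X _ => ∃ (F : Type) (_ : Field F) (_ : Fintype F), (p : F) ≠ 0 ∧ Nonempty (X ≃* Lie.chevE6.group F))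
  e7 : RowForT p (fun X _ => ∃ (F : Type) (_ : Field F) (_ : Fintype F), (p : F) ≠ 0 ∧ Nonempty (X ≃* Lie.chevE7.group F))
  e8 : RowForT p (fun X _ => ∃ (F : Type) (_ : Field F) (_ : Fintype F), (p : F) ≠ 0 ∧ Nonempty (X ≃* Lie.chevE8.group F))
  te6 : RowForT p (fun X _ => ∃ (K : Type) (_ : Field K) (_ : Fintype K) (q : ℕ), (p : K) ≠ 0 ∧ IsPrimePow q ∧
    Fintype.card K = q ^ 2 ∧ Nonempty (X ≃* Lie.twistedE6 K q))
  td4 : RowForT p (fun X _ => ∃ (K : Type) (_ : Field K) (_ : Fintype K) (q : ℕ), (p : K) ≠ 0 ∧ IsPrimePow q ∧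
    Fintype.card K = q ^ 3 ∧ Nonempty (X ≃* Lie.twistedD4 K q))
  sz : RowForT p (fun X _ => Lie.IsoSuzuki X)
  ree : p ≠ 3 → RowForT p (fun X _ => Lie.IsoRee X)
  tf4 : RowForT p (fun X _ => Lie.Iso2F4 X)
  tits : RowForT p (fun X _ => Lie.IsoTits X)
  spor : RowForT p (fun X _ => IsSporadicGroup X)

end Cfsg.Agent.H145.BR
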